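import Mathlib
import Groth.Prelude.Def_EGA41
import Groth.Agent.S0578
import Groth.Agent.S2454
import Groth.Agent.FSmoothAdicLib.Lift
import Groth.Agent.FieldExtLib.Separable
import Groth.Agent.FiniteCompleteLib.Basic

/-!
Cohen rings as Cohen algebras over the prime local ring `ℤ_(p)` (`ℚ` for `p = 0`), and their lifting property.
-/

set_option autoImplicit false
set_option linter.style.haveILetI false
universe u v
open IsLocalRing

namespace Groth.Agent.CohenRingLib

theorem eq_of_charP_residue {R : Type u} [CommRing R] [IsLocalRing R] {q : ℕ} (hq : q.Prime)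
    (hqm : (q : R) ∈ maximalIdeal R) (p : ℕ) [CharP (ResidueField R) p] : p = q := by
  have h : p ∣ q := (CharP.cast_eq_zero_iff (ResidueField R) p q).1 (by
    rw [← map_natCast (residue R), residue_eq_zero_iff]; exact hqm)
  exact (hq.eq_one_or_self_of_dvd p h).resolve_left (CharP.char_ne_one (ResidueField R) p)

theorem residue_charP_of_charZero_field {W : Type u} [CommRing W] [IsLocalRing W] (hW : IsField W) [CharZero W] :
    CharP (ResidueField W) 0 := by
  letI := hW.toField
  exact charP_of_injective_ringHom (f := residue W) (RingHom.injective _) 0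

theorem noetherian_of_cohen {W : Type u} [CommRing W] (hW : EGA41.IsCohenRingEGA W) : IsNoetherianRing W := by
  rcases hW with ⟨hf, -⟩ | ⟨_, hdvr, -⟩
  · letI := hf.toField; infer_instance
  · haveI := hdvr; infer_instance

theorem isDomain_of_cohen {W : Type u} [CommRing W] (hW : EGA41.IsCohenRingEGA W) : IsDomain W := by
  rcases hW with ⟨hf, -⟩ | ⟨h, -⟩
  · exact hf.isDomain
  · exact h

theorem isAdicComplete_of_cohen {W : Type u} [CommRing W] [IsLocalRing W] (hW : EGA41.IsCohenRingEGA W) :
    IsAdicComplete (maximalIdeal W) W := by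
  rcases hW with ⟨hf, -⟩ | ⟨_, hdvr, hc, -⟩
  · rw [isField_iff_maximalIdeal_eq.1 hf]; infer_instance
  · exact hc

/-- The maximal ideal of a Cohen ring is generated by its residue characteristic. -/
theorem maximalIdeal_of_cohen {W : Type u} [CommRing W] [IsLocalRing W] (hW : EGA41.IsCohenRingEGA W)
    (p : ℕ) [CharP (ResidueField W) p] : maximalIdeal W = Ideal.span {(p : W)} := by
  rcases hW with ⟨hf, hz⟩ | ⟨_, hdvr, -, q, hq, hm⟩
  · haveI := hz
    have h0 := residue_charP_of_charZero_field hf
    obtain rfl : p = 0 := CharP.eq (ResidueField W) ‹CharP (ResidueField W) p› h0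
    rw [isField_iff_maximalIdeal_eq.1 hf, Nat.cast_zero, Ideal.span_singleton_zero]
  · have hqm : (q : W) ∈ maximalIdeal W := hm ▸ Ideal.mem_span_singleton_self _
    obtain rfl := eq_of_charP_residue hq hqm p
    exact hm

theorem charZero_of_cohen {W : Type u} [CommRing W] [IsLocalRing W] (hW : EGA41.IsCohenRingEGA W) :
    CharZero W := by
  rcases hW with ⟨-, hz⟩ | ⟨_, hdvr, -, q, hq, hm⟩
  · exact hz
  · haveI := hdvr
    have hq0 : (q : W) ≠ 0 := fun h0 => IsDiscreteValuationRing.not_a_field W (by
      rw [hm, h0, Ideal.span_singleton_zero])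
    obtain ⟨ℓ, hℓ⟩ := CharP.exists W
    haveI := hℓ
    rcases CharP.char_is_prime_or_zero W ℓ with hl | rfl
    · exfalso
      refine hq0 ?_
      have hlm : (ℓ : W) ∈ maximalIdeal W := by rw [CharP.cast_eq_zero]; exact zero_mem _
      obtain ⟨p, hp⟩ := CharP.exists (ResidueField W)
      haveI := hp
      obtain rfl : p = ℓ := eq_of_charP_residue hl hlm p
      obtain rfl : p = q := eq_of_charP_residue hq (hm ▸ Ideal.mem_span_singleton_self _) p
      exact CharP.cast_eq_zero W p
    · exact CharP.charP_to_charZero W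

theorem isPrime_span_char (k : Type u) [Field k] (p : ℕ) [CharP k p] : (Ideal.span {(p : ℤ)}).IsPrime := by
  rcases CharP.char_is_prime_or_zero k p with hp | rfl
  · exact (Ideal.span_singleton_prime (by exact_mod_cast hp.ne_zero)).2 (Nat.prime_iff_prime_int.1 hp)
  · rw [Nat.cast_zero, Ideal.span_singleton_zero]; exact Ideal.isPrime_bot

section PrimeRing

variable (p : ℕ) [hp : (Ideal.span {(p : ℤ)}).IsPrime]
variable (A : Type u) [CommRing A] [IsLocalRing A] [IsLocalization.AtPrime A (Ideal.span {(p : ℤ)})]

include hp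

theorem isUnit_intCast {C : Type v} [CommRing C] [IsLocalRing C] [CharP (ResidueField C) p]
    (y : (Ideal.span {(p : ℤ)}).primeCompl) : IsUnit (Int.castRingHom C y) :=
  IsLocalRing.notMem_maximalIdeal.1 fun hmem => y.2 (by
    have h1 := (residue_eq_zero_iff _).2 hmem
    rw [eq_intCast, map_intCast, CharP.intCast_eq_zero_iff _ p] at h1
    exact Ideal.mem_span_singleton.2 h1)

/-- The canonical map from the prime local ring. -/
noncomputable def zlocHom (C : Type v) [CommRing C] [IsLocalRing C] [CharP (ResidueField C) p] : A →+* C :=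
  IsLocalization.lift (S := A) (M := (Ideal.span {(p : ℤ)}).primeCompl) (g := Int.castRingHom C) (isUnit_intCast p)

theorem hom_unique {C : Type v} [CommRing C] (f g : A →+* C) : f = g :=
  IsLocalization.ringHom_ext (Ideal.span {(p : ℤ)}).primeCompl (RingHom.ext_int _ _)

theorem maximalIdeal_zloc : maximalIdeal A = Ideal.span {(p : A)} := by
  rw [← IsLocalization.AtPrime.map_eq_maximalIdeal (Ideal.span {(p : ℤ)}) A, Ideal.map_span, Set.image_singleton,
    map_natCast]

theorem charP_zloc : CharP (ResidueField A) p := by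
  refine ⟨fun n => ?_⟩
  rw [← map_natCast (residue A), residue_eq_zero_iff, ← map_natCast (algebraMap ℤ A) n, ← Ideal.mem_comap,
    ← Ideal.under_def, IsLocalization.AtPrime.under_maximalIdeal A (Ideal.span {(p : ℤ)}), Ideal.mem_span_singleton,
    Int.natCast_dvd_natCast]

theorem perfectField_zloc : PerfectField (ResidueField A) := by
  haveI := charP_zloc p A
  rcases CharP.char_is_prime_or_zero (ResidueField A) p with hpr | h0
  · haveI := Fact.mk hpr
    haveI : (Ideal.span {(p : ℤ)}).IsMaximal := Int.ideal_span_isMaximal_of_prime p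
    haveI : Finite (ResidueField A) := Finite.of_equiv (ZMod p)
      ((Int.quotientSpanNatEquivZMod p).symm.trans
        (IsLocalization.AtPrime.equivQuotMaximalIdeal (Ideal.span {(p : ℤ)}) A)).toEquiv
    infer_instance
  · subst h0
    haveI : CharZero (ResidueField A) := CharP.charP_to_charZero _
    infer_instance

theorem isNoetherianRing_zloc : IsNoetherianRing A :=
  IsLocalization.isNoetherianRing (Ideal.span {(p : ℤ)}).primeCompl A inferInstance

theorem map_maximalIdeal_zloc {C : Type v} [CommRing C] [Algebra A C] :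
    (maximalIdeal A).map (algebraMap A C) = Ideal.span {(p : C)} := by
  rw [maximalIdeal_zloc p A, Ideal.map_span, Set.image_singleton, map_natCast]

theorem isLocalHom_zloc {C : Type v} [CommRing C] [IsLocalRing C] [CharP (ResidueField C) p] [Algebra A C] :
    IsLocalHom (algebraMap A C) := by
  refine ((IsLocalRing.local_hom_TFAE (algebraMap A C)).out 0 2).2 ?_
  rw [map_maximalIdeal_zloc p A, Ideal.span_singleton_le_iff_mem, ← residue_eq_zero_iff, map_natCast,
    CharP.cast_eq_zero]

theorem isCohenAlgebra_of_isCohenRingEGA {W : Type u} [CommRing W] [IsLocalRing W] [CharP (ResidueField W) p]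
    [Algebra A W] [IsLocalHom (algebraMap A W)] (hW : EGA41.IsCohenRingEGA W) : EGA41.IsCohenAlgebra A W := by
  refine ⟨isNoetherianRing_zloc p A, noetherian_of_cohen hW, isAdicComplete_of_cohen hW, ?_, ?_, ?_⟩
  · haveI := charZero_of_cohen hW
    haveI := isDomain_of_cohen hW
    haveI : Module.IsTorsionFree ℤ W := inferInstance
    exact (Module.flat_iff_of_isLocalization A (Ideal.span {(p : ℤ)}).primeCompl W).2 inferInstance
  · rw [map_maximalIdeal_zloc p A, maximalIdeal_of_cohen hW p]
  · haveI := perfectField_zloc p A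
    exact FieldExtLib.isGeometricallyReduced_of_perfectField

omit hp in
theorem isDVR_of_principal_regular {R : Type u} [CommRing R] [IsLocalRing R] [IsNoetherianRing R] {x : R}
    (hm : maximalIdeal R = Ideal.span {x}) (hx : x ∈ nonZeroDivisors R) :
    ∃ _ : IsDomain R, IsDiscreteValuationRing R := by
  have hkr : ∀ a : R, a ≠ 0 → ∃ (n : ℕ) (u : R), IsUnit u ∧ a = x ^ n * u := by
    intro a ha
    obtain ⟨n, hn⟩ : ∃ n, a ∉ maximalIdeal R ^ n := by
      by_contra h
      push Not at h
      refine ha ?_
      have h' : a ∈ ⨅ n, maximalIdeal R ^ n := Ideal.mem_iInf.2 h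
      rwa [Ideal.iInf_pow_eq_bot_of_isLocalRing _ (maximalIdeal.isMaximal R).ne_top, Ideal.mem_bot] at h'
    induction n generalizing a with
    | zero => exact absurd (by rw [pow_zero, Ideal.one_eq_top]; trivial) hn
    | succ n ih =>
      by_cases hu : IsUnit a
      · exact ⟨0, a, hu, by rw [pow_zero, one_mul]⟩
      · have h1 : a ∈ maximalIdeal R := (IsLocalRing.mem_maximalIdeal a).2 hu
        rw [hm, Ideal.mem_span_singleton] at h1
        obtain ⟨b, rfl⟩ := h1
        obtain ⟨k, w, hw, rfl⟩ := ih b (fun h0 => ha (by rw [h0, mul_zero])) (fun hb => hn (by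
          rw [pow_succ', hm]
          exact Ideal.mul_mem_mul (Ideal.mem_span_singleton_self x) (hm ▸ hb)))
        exact ⟨k + 1, w, hw, by rw [pow_succ', mul_assoc]⟩
  haveI : NoZeroDivisors R := ⟨fun {a b} hab => by
    by_contra h
    push Not at h
    obtain ⟨n, u, hu, rfl⟩ := hkr a h.1
    obtain ⟨m, w, hw, rfl⟩ := hkr b h.2
    rw [show x ^ n * u * (x ^ m * w) = (u * w) * x ^ (n + m) by ring] at hab
    rw [(hu.mul hw).mul_right_eq_zero] at hab
    exact nonZeroDivisors.ne_zero (pow_mem hx (n + m)) hab⟩
  haveI : IsDomain R := NoZeroDivisors.to_isDomain R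
  have hnf : ¬ IsField R := by
    rw [isField_iff_maximalIdeal_eq, hm, Ideal.span_singleton_eq_bot]
    exact nonZeroDivisors.ne_zero hx
  have hp : (maximalIdeal R).IsPrincipal := ⟨x, hm⟩
  have t : IsDiscreteValuationRing R ↔ (maximalIdeal R).IsPrincipal :=
    (IsDiscreteValuationRing.TFAE R hnf).out 0 4
  exact ⟨inferInstance, t.2 hp⟩

theorem isCohenRingEGA_of_isCohenAlgebra {W : Type u} [CommRing W] [IsLocalRing W] [CharP (ResidueField W) p]
    [Algebra A W] [IsLocalHom (algebraMap A W)] (h : EGA41.IsCohenAlgebra A W) : EGA41.IsCohenRingEGA W := by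
  obtain ⟨-, hnoe, hcomp, hflat, hmap, -⟩ := h
  haveI := hnoe
  haveI := hflat
  rw [map_maximalIdeal_zloc p A] at hmap
  rcases CharP.char_is_prime_or_zero (ResidueField W) p with hpr | h0
  · refine Or.inr ?_
    haveI : Module.Flat ℤ W := (Module.flat_iff_of_isLocalization A (Ideal.span {(p : ℤ)}).primeCompl W).1 hflat
    have hx : (p : W) ∈ nonZeroDivisors W := by
      rw [mem_nonZeroDivisors_iff_right]
      intro z hz
      have hreg : IsSMulRegular W (p : ℤ) := Module.Flat.isSMulRegular_of_nonZeroDivisors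
        (mem_nonZeroDivisors_of_ne_zero (Int.natCast_ne_zero.2 hpr.ne_zero))
      refine hreg (Eq.trans ?_ (smul_zero (p : ℤ)).symm)
      show (p : ℤ) • z = 0
      rw [zsmul_eq_mul, Int.cast_natCast, mul_comm]
      exact hz
    obtain ⟨hdom, hdvr⟩ := isDVR_of_principal_regular hmap.symm hx
    exact ⟨hdom, hdvr, hcomp, p, hpr, hmap.symm⟩
  · subst h0
    refine Or.inl ⟨?_, ?_⟩
    · rw [isField_iff_maximalIdeal_eq, ← hmap, Nat.cast_zero, Ideal.span_singleton_zero]
    · refine charZero_of_inj_zero fun n hn => ?_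
      have := congrArg (residue W) hn
      rw [map_natCast, map_zero, CharP.cast_eq_zero_iff (ResidueField W) 0] at this
      exact zero_dvd_iff.1 this

end PrimeRing

/-- A Cohen ring maps into every complete local ring, lifting any given map modulo an ideal. -/
theorem exists_lift {W C : Type u} [CommRing W] [IsLocalRing W] (hW : EGA41.IsCohenRingEGA W)
    [CommRing C] [IsLocalRing C] [IsAdicComplete (maximalIdeal C) C] (J : Ideal C) (hJ : J ≤ maximalIdeal C)
    [IsHausdorff ((maximalIdeal C).map (Ideal.Quotient.mk J)) (C ⧸ J)] (u : W →+* C ⧸ J)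
    (hu : (maximalIdeal W).map u ≤ (maximalIdeal C).map (Ideal.Quotient.mk J)) :
    ∃ v : W →+* C, IsLocalHom v ∧ (Ideal.Quotient.mk J).comp v = u := by
  obtain ⟨p, hpW⟩ := CharP.exists (ResidueField W)
  haveI := hpW
  haveI := isPrime_span_char (ResidueField W) p
  haveI hpC : CharP (ResidueField C) p := by
    have hker : ∀ a ∈ maximalIdeal W, (Ideal.Quotient.factor hJ).comp u a = 0 := by
      intro a ha
      obtain ⟨c, hc, hca⟩ := (Ideal.mem_map_iff_of_surjective _ Ideal.Quotient.mk_surjective).1
        (hu (Ideal.mem_map_of_mem u ha))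
      rw [RingHom.comp_apply, ← hca, Ideal.Quotient.factor_mk, Ideal.Quotient.eq_zero_iff_mem]
      exact hc
    let θ : ResidueField W →+* ResidueField C :=
      Ideal.Quotient.lift (maximalIdeal W) ((Ideal.Quotient.factor hJ).comp u) hker
    exact charP_of_injective_ringHom (f := θ) (RingHom.injective θ) p
  let P := Localization.AtPrime (Ideal.span {(p : ℤ)})
  let A := ULift.{u} P
  haveI : IsLocalRing A := RingEquiv.isLocalRing (ULift.ringEquiv (R := P)).symm
  letI : Algebra ℤ A := Ring.toIntAlgebra A
  haveI : IsLocalization.AtPrime A (Ideal.span {(p : ℤ)}) :=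
    IsLocalization.isLocalization_of_algEquiv (Ideal.span {(p : ℤ)}).primeCompl
      (AlgEquiv.ofRingEquiv (f := (ULift.ringEquiv (R := P)).symm) (fun x => by simp))
  letI : Algebra A W := (zlocHom p A W).toAlgebra
  letI : Algebra A C := (zlocHom p A C).toAlgebra
  haveI : IsLocalHom (algebraMap A W) := isLocalHom_zloc p A
  let u' : W →ₐ[A] C ⧸ J :=
    { u with commutes' := fun a => RingHom.congr_fun (hom_unique p A (u.comp (algebraMap A W)) (algebraMap A (C ⧸ J))) a }
  obtain ⟨v, -, hv⟩ := FSmoothAdicLib.exists_lift_complete (maximalIdeal A) (maximalIdeal W) (maximalIdeal C)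
    (S2454.result (isCohenAlgebra_of_isCohenRingEGA p A hW)) ⟨1, by
      rw [pow_one, map_maximalIdeal_zloc p A, Ideal.span_singleton_le_iff_mem, ← residue_eq_zero_iff, map_natCast,
        CharP.cast_eq_zero]⟩ J ⟨1, by rwa [pow_one]⟩ u' ⟨1, by rw [pow_one]; exact hu⟩
  have hv' : (Ideal.Quotient.mk J).comp v.toRingHom = u := RingHom.ext fun x => AlgHom.congr_fun hv x
  refine ⟨v.toRingHom, ((IsLocalRing.local_hom_TFAE v.toRingHom).out 0 2).2 ?_, hv'⟩
  rw [Ideal.map_le_iff_le_comap]
  intro a ha
  have h1 := hu (Ideal.mem_map_of_mem u ha)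
  rw [← RingHom.congr_fun hv' a, RingHom.comp_apply, Ideal.mem_quotient_iff_mem_sup, sup_eq_left.2 hJ] at h1
  exact h1

/-- A Cohen ring maps onto the residue field of a complete local ring with the same residue field. -/
theorem exists_lift_residue {W C : Type u} [CommRing W] [IsLocalRing W] (hW : EGA41.IsCohenRingEGA W)
    [CommRing C] [IsLocalRing C] [IsAdicComplete (maximalIdeal C) C] (f : ResidueField W →+* ResidueField C) :
    ∃ v : W →+* C, IsLocalHom v ∧ ∀ x, residue C (v x) = f (residue W x) := by
  haveI : IsHausdorff ((maximalIdeal C).map (Ideal.Quotient.mk (maximalIdeal C))) (C ⧸ maximalIdeal C) := by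
    rw [Ideal.map_quotient_self]; infer_instance
  obtain ⟨v, hv, hv'⟩ := exists_lift hW (maximalIdeal C) le_rfl (f.comp (residue W)) (by
    rw [Ideal.map_le_iff_le_comap]
    intro a ha
    rw [Ideal.mem_comap]
    show f (residue W a) ∈ _
    rw [(residue_eq_zero_iff a).2 ha, map_zero]
    exact zero_mem _)
  exact ⟨v, hv, fun x => RingHom.congr_fun hv' x⟩

/-- Every field is the residue field of a Cohen ring. -/
theorem exists_cohenRing (k : Type u) [Field k] :
    ∃ (W : Type u) (_ : CommRing W) (_ : IsLocalRing W), EGA41.IsCohenRingEGA W ∧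
      (IsField W ∨ CAlg.IsCohenRing W) ∧ Nonempty (ResidueField W ≃+* k) := by
  obtain ⟨p, hp⟩ := CharP.exists k
  rcases CharP.char_is_prime_or_zero k p with hpr | rfl
  · haveI := Fact.mk hpr
    obtain ⟨W, _, _, h, he⟩ := S0578.result p k
    exact ⟨W, inferInstance, inferInstance, Or.inr h, Or.inr h, he⟩
  · haveI : CharZero k := CharP.charP_to_charZero k
    exact ⟨k, inferInstance, inferInstance, Or.inl ⟨Field.toIsField k, inferInstance⟩, Or.inl (Field.toIsField k),
      ⟨(RingEquiv.ofBijective (residue k) ⟨RingHom.injective _, residue_surjective⟩).symm⟩⟩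

/-- A map from a complete local ring which is surjective on residue fields and hits generators of the
maximal ideal is surjective. -/
theorem surjective_of_residue {W C : Type u} [CommRing W] [IsLocalRing W] [IsAdicComplete (maximalIdeal W) W]
    [CommRing C] [IsLocalRing C] [IsHausdorff (maximalIdeal C) C] (v : W →+* C)
    (hmap : (maximalIdeal W).map v = maximalIdeal C) (hres : Function.Surjective ((residue C).comp v)) :
    Function.Surjective v := by
  haveI : IsHausdorff ((maximalIdeal W).map v) C := by rw [hmap]; infer_instance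
  refine surjective_of_mk_map_comp_surjective (I := maximalIdeal W) (f := v) fun z => ?_
  obtain ⟨y, rfl⟩ := Ideal.Quotient.mk_surjective z
  obtain ⟨a, ha⟩ := hres (residue C y)
  refine ⟨a, Ideal.Quotient.eq.2 ?_⟩
  rw [hmap, ← residue_eq_zero_iff, map_sub]
  exact sub_eq_zero.2 ha

end Groth.Agent.CohenRingLib
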